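import Cfsg.Agent.CharInduce.Induce
import Cfsg.Agent.CharBasic.Kernel

/-!
Bounded irreducible degrees: subgroups on which a character of the largest degree stays
irreducible.
-/

set_option autoImplicit false
set_option linter.style.haveILetI false
set_option linter.unusedSectionVars false

namespace Cfsg.Agent.H25.AbelianIndex

open Subgroup CharBasic
open scoped ComplexConjugate

universe u

variable {G : Type u} [Group G] [Finite G]

/-- All irreducible degrees are at most `b`. -/
def DegLE (b : ℕ) (G : Type u) [Group G] : Prop :=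
  ∀ χ : G → ℂ, IsIrrCharacter G χ → ∀ n : ℕ, χ 1 = n → n ≤ b

theorem exists_over [Fintype G] (H : Subgroup G) [Fintype H] {θ : H → ℂ}
    (hθ : IsIrrCharacter H θ) :
    ∃ ψ : IrrCharacter G, classInner θ (fun h : H => (ψ : G → ℂ) h) ≠ 0 := by
  have hind := CharInduce.IsChar.ind H (IsIrr.isCharacter hθ)
  have hne : indFun H θ ≠ 0 := by
    intro h0
    have h1 := congrFun h0 1
    rw [CharInduce.indFun_one] at h1
    rcases mul_eq_zero.1 h1 with h | h
    · exact H.index_ne_zero_of_finite (by exact_mod_cast h)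
    · exact IsIrr.one_ne_zero hθ h
  obtain ⟨ψ, hψ⟩ := CharInduce.exists_constituent hind hne
  refine ⟨ψ, ?_⟩
  rwa [CharInduce.classInner_indFun_left H θ _ (IsIrr.isClassFunction ψ.2)] at hψ

theorem res_split [Fintype G] (H : Subgroup G) [Fintype H] {θ : H → ℂ}
    (hθ : IsIrrCharacter H θ) (ψ : IrrCharacter G)
    (hne : classInner θ (fun h : H => (ψ : G → ℂ) h) ≠ 0) :
    ∃ r : H → ℂ, IsCharacter H r ∧ (fun h : H => (ψ : G → ℂ) h) = θ + r := by
  refine CharInduce.IsChar.exists_eq_add (CharInduce.IsChar.res (IsIrr.isCharacter ψ.2) H) hθ ?_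
  intro h
  apply hne
  rw [← classInner_conj_symm, h, map_zero]

theorem DegLE.subgroup {b : ℕ} (h : DegLE b G) (H : Subgroup G) : DegLE b H := by
  classical
  cases nonempty_fintype G
  haveI := Fintype.ofFinite H
  intro θ hθ n hn
  obtain ⟨ψ, hψ⟩ := exists_over H hθ
  obtain ⟨r, hr, he⟩ := res_split H hθ ψ hψ
  obtain ⟨m, -, hm⟩ := IsIrr.exists_degree ψ.2
  obtain ⟨k, hk⟩ := IsChar.exists_degree hr
  have h1 := congrFun he 1
  simp only [Pi.add_apply, OneMemClass.coe_one, hm, hn, hk] at h1
  have : m = n + k := by exact_mod_cast h1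
  have := h _ ψ.2 m hm
  omega

theorem comm_of_degLE_one {b : ℕ} (hb : b ≤ 1) (h : DegLE b G) (x y : G) : x * y = y * x := by
  cases nonempty_fintype G
  refine (commutative_iff_forall_linear (G := G)).2 (fun χ => ?_) x y
  obtain ⟨n, hn, hχ⟩ := IsIrr.exists_degree χ.2
  have := h _ χ.2 n hχ
  rw [hχ, show n = 1 by omega, Nat.cast_one]

/-- A character of the largest degree lying over `θ` of the same degree restricts to `θ`. -/
theorem res_eq_of_deg [Fintype G] {b : ℕ} (h : DegLE b G) (H : Subgroup G) [Fintype H]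
    {θ : H → ℂ} (hθ : IsIrrCharacter H θ) (hb : θ 1 = b) (ψ : IrrCharacter G)
    (hne : classInner θ (fun h : H => (ψ : G → ℂ) h) ≠ 0) :
    (fun h : H => (ψ : G → ℂ) h) = θ ∧ (ψ : G → ℂ) 1 = b := by
  obtain ⟨r, hr, he⟩ := res_split H hθ ψ hne
  obtain ⟨m, -, hm⟩ := IsIrr.exists_degree ψ.2
  obtain ⟨k, hk⟩ := IsChar.exists_degree hr
  have h1 := congrFun he 1
  simp only [Pi.add_apply, OneMemClass.coe_one, hm, hb, hk] at h1
  have h2 : m = b + k := by exact_mod_cast h1
  have h3 := h _ ψ.2 m hm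
  have hk0 : k = 0 := by omega
  have hr0 : r = 0 := CharInduce.IsChar.eq_zero_of_one_eq_zero hr (by rw [hk, hk0, Nat.cast_zero])
  rw [hr0, add_zero] at he
  exact ⟨he, by rw [hm, show m = b by omega]⟩

open scoped Classical in
/-- A character of the largest degree of a subgroup `H` vanishes at elements of `H` having a
conjugate outside `H`. -/
theorem conj_mem_of_ne_zero {b : ℕ} (hb : 0 < b) (h : DegLE b G) (H : Subgroup G) {θ : H → ℂ}
    (hθ : IsIrrCharacter H θ) (hθb : θ 1 = b) {y : H} (hy : θ y ≠ 0) (x : G) :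
    x⁻¹ * (y : G) * x ∈ H := by
  cases nonempty_fintype G
  haveI := Fintype.ofFinite H
  obtain ⟨χ, hχ⟩ := exists_over H hθ
  have hres := (res_eq_of_deg h H hθ hθb χ hχ).1
  set η := indFun H θ with hη
  have hηcl : IsClassFunction G η := CharInduce.isClassFunction_indFun H θ
  -- the coefficients of `η`
  let a : IrrCharacter G → ℂ := fun ψ => classInner η (ψ : G → ℂ)
  have ha : ∀ ψ, (a ψ = 0 ∨ (a ψ = 1 ∧ (ψ : G → ℂ) 1 = b)) := fun ψ => by
    rw [show a ψ = classInner θ (fun h : H => (ψ : G → ℂ) h) from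
      CharInduce.classInner_indFun_left H θ _ (IsIrr.isClassFunction ψ.2)]
    by_cases h0 : classInner θ (fun h : H => (ψ : G → ℂ) h) = 0
    · exact Or.inl h0
    · obtain ⟨he, h1⟩ := res_eq_of_deg h H hθ hθb ψ h0
      rw [he]
      exact Or.inr ⟨classInner_irr_self hθ, h1⟩
  have hnorm : classInner η η = (H.index : ℂ) := by
    have hsq : classInner η η = ∑ ψ, a ψ := by
      rw [classInner_eq_sum hηcl]
      refine Finset.sum_congr rfl fun ψ _ => ?_
      rcases ha ψ with h0 | ⟨h1, -⟩
      · simp [show classInner η (ψ : G → ℂ) = 0 from h0, a]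
      · simp [show classInner η (ψ : G → ℂ) = 1 from h1, a]
    have hdeg : (H.index : ℂ) * b = (∑ ψ, a ψ) * b := by
      rw [← hθb, ← CharInduce.indFun_one H θ, hθb, Finset.sum_mul, ← hη]
      conv_lhs => rw [classFunction_expansion hηcl]
      simp only [Finset.sum_apply, Pi.smul_apply, smul_eq_mul]
      refine Finset.sum_congr rfl fun ψ _ => ?_
      rcases ha ψ with h0 | ⟨-, h1⟩
      · simp [show classInner η (ψ : G → ℂ) = 0 from h0, show a ψ = 0 from h0]
      · rw [h1]
    rw [hsq]
    exact (mul_right_cancel₀ (Nat.cast_ne_zero.2 hb.ne') hdeg).symm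
  -- the induced character on `H`
  set cnt : H → ℕ := fun z => (Finset.univ.filter fun g : G => g⁻¹ * (z : G) * g ∈ H).card
    with hcnt
  have hηH : ∀ z : H, η z = (Nat.card H : ℂ)⁻¹ * (cnt z : ℂ) * θ z := by
    intro z
    rw [hη, CharInduce.indFun_apply, mul_assoc]
    congr 1
    rw [hcnt, Finset.natCast_card_filter, Finset.sum_mul]
    refine Finset.sum_congr rfl fun g _ => ?_
    by_cases hg : g⁻¹ * (z : G) * g ∈ H
    · rw [CharInduce.extendByZero_of_mem θ hg, if_pos hg, one_mul]
      have e1 := congrFun hres ⟨_, hg⟩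
      have e2 := congrFun hres z
      simp only at e1 e2
      rw [← e1, ← e2]
      simpa using IsIrr.isClassFunction χ.2 (z : G) g⁻¹
    · rw [CharInduce.extendByZero_of_not_mem θ hg, if_neg hg, zero_mul]
  rw [hη, CharInduce.classInner_indFun_left H θ _ hηcl, classInner_def] at hnorm
  simp only [hηH, map_mul, map_inv₀, map_natCast] at hnorm
  have hcardH : (Nat.card H : ℂ) ≠ 0 := by simp
  have hGH : (Nat.card G : ℂ) = (H.index : ℂ) * (Nat.card H : ℂ) := by
    exact_mod_cast (H.index_mul_card).symm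
  have h1 : ∑ z : H, (Complex.normSq (θ z) : ℂ) = (Nat.card H : ℂ) := by
    have := classInner_irr_self hθ
    rw [classInner_def] at this
    simp only [Complex.mul_conj] at this
    field_simp at this
    linear_combination this
  have h2 : ∑ z : H, (Complex.normSq (θ z) : ℂ) * (cnt z : ℂ) =
      (Nat.card G : ℂ) * (Nat.card H : ℂ) := by
    have e : ∀ z : H, θ z * ((Nat.card H : ℂ)⁻¹ * (cnt z : ℂ) * conj (θ z)) =
        (Nat.card H : ℂ)⁻¹ * ((Complex.normSq (θ z) : ℂ) * (cnt z : ℂ)) := fun z => by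
      rw [← Complex.mul_conj]; ring
    simp only [e, ← Finset.mul_sum] at hnorm
    field_simp at hnorm
    rw [hGH]
    linear_combination hnorm
  have h3 : ∑ z : H, Complex.normSq (θ z) * ((Nat.card G : ℝ) - cnt z) = 0 := by
    have : ∑ z : H, (Complex.normSq (θ z) : ℂ) * ((Nat.card G : ℂ) - cnt z) = 0 := by
      simp only [mul_sub, Finset.sum_sub_distrib, ← Finset.sum_mul, h1, h2]
      ring
    exact_mod_cast this
  have hle : ∀ z : H, (cnt z : ℝ) ≤ Nat.card G := fun z => by
    rw [Nat.card_eq_fintype_card]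
    exact_mod_cast (Finset.univ.filter _).card_le_univ
  have h4 := (Finset.sum_eq_zero_iff_of_nonneg fun z _ =>
    mul_nonneg (Complex.normSq_nonneg _) (sub_nonneg.2 (hle z))).1 h3 y (Finset.mem_univ _)
  have h5 : (cnt y : ℝ) = (Nat.card G : ℝ) :=
    (sub_eq_zero.1 ((mul_eq_zero.1 h4).resolve_left fun h => hy (Complex.normSq_eq_zero.1 h))).symm
  have h6 : cnt y = Fintype.card G := by
    rw [← Nat.card_eq_fintype_card]; exact_mod_cast h5
  have h7 := (Finset.card_eq_iff_eq_univ _).1 h6
  have h8 := Finset.mem_univ x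
  rw [← h7] at h8
  exact (Finset.mem_filter.1 h8).2

/-- The centraliser of an element not commuting with all its conjugates has smaller degrees. -/
theorem degLE_centralizer {b : ℕ} (hb : 0 < b) (h : DegLE b G) {x g : G}
    (hg : x * (g * x * g⁻¹) ≠ g * x * g⁻¹ * x) :
    DegLE (b - 1) (centralizer ({x} : Set G)) := by
  intro θ hθ n hn
  by_contra hlt
  have hnb := DegLE.subgroup h _ θ hθ n hn
  have hn' : n = b := by omega
  rw [hn'] at hn
  let y : centralizer ({x} : Set G) := ⟨x, mem_centralizer_singleton_iff.2 rfl⟩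
  have hy : θ y ≠ 0 := by
    obtain ⟨m, ρ, hρ, rfl⟩ := hθ
    haveI := hρ
    obtain ⟨ω, -, hω1, hω⟩ := exists_central_scalar ρ (z := y) (Subgroup.mem_center_iff.2 fun z =>
      Subtype.ext (mem_centralizer_singleton_iff.1 z.2))
    have := hω 1
    rw [one_mul] at this
    rw [this, hn]
    refine mul_ne_zero (fun h0 => ?_) (Nat.cast_ne_zero.2 hb.ne')
    rw [h0, norm_zero] at hω1
    exact zero_ne_one hω1
  have := conj_mem_of_ne_zero hb h _ hθ hn hy g⁻¹
  simp only [inv_inv, y] at this
  exact hg (mem_centralizer_singleton_iff.1 this).symm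

end Cfsg.Agent.H25.AbelianIndex
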