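import Cfsg.Agent.H25.AbelianIndex.Basic
import Cfsg.Agent.CharBasic.Integral

/-!
A quotient whose derived subgroup is minimal and central: the preimage of the centre has smaller
degrees and index at most `b ^ 2`.
-/

set_option autoImplicit false
set_option linter.style.haveILetI false
set_option linter.unusedSectionVars false

namespace Cfsg.Agent.H25.AbelianIndex

open Subgroup CharBasic
open scoped ComplexConjugate commutatorElement

universe u

variable {G : Type u} [Group G] [Finite G] {Q : Type u} [Group Q] [Finite Q]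

/-- A nonabelian group has a nonlinear irreducible character. -/
theorem exists_nonlinear (hnab : commutator Q ≠ ⊥) :
    ∃ φ : IrrCharacter Q, ∃ f : ℕ, 2 ≤ f ∧ (φ : Q → ℂ) 1 = f := by
  cases nonempty_fintype Q
  by_contra hno
  push Not at hno
  apply hnab
  rw [_root_.commutator_def, Subgroup.commutator_eq_bot_iff_le_centralizer]
  have hlin : ∀ χ : IrrCharacter Q, (χ : Q → ℂ) 1 = 1 := fun χ => by
    obtain ⟨n, hn, hχ⟩ := IsIrr.exists_degree χ.2
    have : n < 2 := by
      by_contra h
      exact hno χ n (by omega) hχ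
    rw [hχ, show n = 1 by omega, Nat.cast_one]
  intro a _
  exact mem_centralizer_iff.2 fun c _ => (commutative_iff_forall_linear.2 hlin) c a

theorem exists_vanish_off_center [Fintype Q] (hnab : commutator Q ≠ ⊥) (hc : center Q ≠ ⊥)
    (hmin : ∀ D : Subgroup Q, D.Normal → D ≠ ⊥ → commutator Q ≤ D) :
    ∃ φ : IrrCharacter Q, ∃ f : ℕ, 2 ≤ f ∧ (φ : Q → ℂ) 1 = f ∧ (center Q).index = f ^ 2 ∧
      (∀ g, g ∉ center Q → (φ : Q → ℂ) g = 0) ∧
      ∀ z ∈ center Q, Complex.normSq ((φ : Q → ℂ) z) = (f : ℝ) ^ 2 := by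
  classical
  have hle : commutator Q ≤ center Q := hmin _ inferInstance hc
  obtain ⟨φ, f, hf2, hf⟩ := exists_nonlinear hnab
  obtain ⟨n, ρ, hρ, hφ⟩ := φ.2
  haveI := hρ
  have hfn : f = n := by
    have := congrFun hφ 1
    rw [Representation.char_one, hf] at this
    simp only [Module.finrank_fin_fun] at this
    exact_mod_cast this.symm
  -- the representation is faithful
  have hker : ∀ g : Q, ρ g = 1 → g = 1 := by
    intro g hg
    by_contra hne
    have hK : MonoidHom.ker ρ ≠ ⊥ := fun h => hne ((Subgroup.mem_bot).1 (h ▸ hg))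
    have hcK := hmin _ inferInstance hK
    have hall : ∀ a : Q, ∃ ω : ℂ, ρ a = ω • LinearMap.id := fun a =>
      schur_scalar ρ (ρ a) fun c => by
        have h1 : ρ ⁅a, c⁆ = 1 := hcK (commutator_mem_commutator (mem_top a) (mem_top c))
        rw [← map_mul, ← map_mul, show a * c = ⁅a, c⁆ * (c * a) by group, map_mul, h1, one_mul]
    have hsq : ∀ a : Q, Complex.normSq ((φ : Q → ℂ) a) = (f : ℝ) ^ 2 := fun a => by
      rw [← hφ, Complex.normSq_eq_norm_sq, (norm_character_eq_iff ρ a).2 (hall a), hfn]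
      simp
    have hs := classInner_irr_self φ.2
    rw [classInner_def] at hs
    simp only [Complex.mul_conj, hsq] at hs
    rw [Finset.sum_const, Finset.card_univ, nsmul_eq_mul, ← Nat.card_eq_fintype_card] at hs
    field_simp at hs
    have : f ^ 2 = 1 := by exact_mod_cast (by push_cast at hs ⊢; linear_combination hs : ((f:ℂ)) ^ 2 = 1)
    nlinarith
  have hvan : ∀ g, g ∉ center Q → (φ : Q → ℂ) g = 0 := by
    intro g hg
    obtain ⟨h, hh⟩ : ∃ h : Q, h * g ≠ g * h := by
      by_contra hh
      push Not at hh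
      exact hg (Subgroup.mem_center_iff.2 hh)
    set c := h * g * h⁻¹ * g⁻¹ with hc'
    have hcC : c ∈ center Q := hle (commutator_mem_commutator (mem_top h) (mem_top g))
    obtain ⟨ω, hω, -, hchar⟩ := exists_central_scalar ρ hcC
    have hω1 : ω ≠ 1 := by
      intro h1
      have : c = 1 := hker c (by rw [hω, h1, one_smul, Module.End.one_eq_id])
      apply hh
      calc h * g = c * (g * h) := by rw [hc']; group
        _ = g * h := by rw [this, one_mul]
    have e : (φ : Q → ℂ) g = ω * (φ : Q → ℂ) g := by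
      conv_lhs => rw [← IsIrr.isClassFunction φ.2 g h]
      rw [← hφ, ← hchar]
      congr 1
      rw [Subgroup.mem_center_iff.1 hcC g, hc']
      group
    have : (ω - 1) * (φ : Q → ℂ) g = 0 := by linear_combination -e
    exact (mul_eq_zero.1 this).resolve_left (sub_ne_zero.2 hω1)
  have hcen : ∀ z ∈ center Q, Complex.normSq ((φ : Q → ℂ) z) = (f : ℝ) ^ 2 := fun z hz => by
    obtain ⟨ω, hω, -, -⟩ := exists_central_scalar ρ hz
    rw [← hφ, Complex.normSq_eq_norm_sq, (norm_character_eq_iff ρ z).2 ⟨ω, hω⟩, hfn]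
    simp
  refine ⟨φ, f, hf2, hf, ?_, hvan, hcen⟩
  have hs := classInner_irr_self φ.2
  rw [classInner_def] at hs
  simp only [Complex.mul_conj] at hs
  rw [← Finset.sum_subset (Finset.subset_univ (Finset.univ.filter (· ∈ center Q))) (fun g _ hg => by
    have hg' : g ∉ center Q := by simpa using hg
    rw [hvan g hg', map_zero, Complex.ofReal_zero]), Finset.sum_congr rfl (fun z hz => by
    rw [hcen z (Finset.mem_filter.1 hz).2]), Finset.sum_const, nsmul_eq_mul] at hs
  have hcard : (Finset.univ.filter (· ∈ center Q)).card = Nat.card (center Q) := by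
    rw [Nat.card_eq_fintype_card, Fintype.card_subtype]
  rw [hcard, ← (center Q).index_mul_card, Nat.cast_mul] at hs
  push_cast at hs
  field_simp at hs
  have : (f : ℂ) ^ 2 = ((center Q).index : ℂ) :=
    (div_eq_one_iff_eq (Nat.cast_ne_zero.2 Subgroup.index_ne_zero_of_finite)).1 hs
  exact_mod_cast this.symm

/-- The preimage of the centre has smaller degrees. -/
theorem drop_center {b : ℕ} (hb : 0 < b) (h : DegLE b G) (π : G →* Q)
    (hπ : Function.Surjective π) (hnab : commutator Q ≠ ⊥) (hc : center Q ≠ ⊥)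
    (hmin : ∀ D : Subgroup Q, D.Normal → D ≠ ⊥ → commutator Q ≤ D) :
    ((center Q).comap π).index ≤ b ^ 2 ∧ DegLE (b - 1) ((center Q).comap π) := by
  classical
  cases nonempty_fintype G
  cases nonempty_fintype Q
  set Z := (center Q).comap π with hZ
  haveI := Fintype.ofFinite Z
  obtain ⟨φ, f, hf2, hf, hidx, hvan, hcen⟩ := exists_vanish_off_center hnab hc hmin
  have hφG : IsIrrCharacter G (fun g => (φ : Q → ℂ) (π g)) := CharInduce.IsIrr.comp φ.2 π hπ
  have hfb : f ≤ b := h _ hφG f (by simp [hf])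
  have hZi : Z.index = f ^ 2 := by rw [hZ, Subgroup.index_comap_of_surjective _ hπ, hidx]
  refine ⟨hZi ▸ Nat.pow_le_pow_left hfb 2, fun θ hθ n hn => ?_⟩
  by_contra hlt
  have hnb := DegLE.subgroup h _ θ hθ n hn
  rw [show n = b by omega] at hn
  obtain ⟨χ, hχ⟩ := exists_over Z hθ
  obtain ⟨hres, hχ1⟩ := res_eq_of_deg h Z hθ hn χ hχ
  set Φ : G → ℂ := (χ : G → ℂ) * fun g => (φ : Q → ℂ) (π g) with hΦ
  have hΦc : IsCharacter G Φ :=
    CharInduce.IsChar.mul (IsIrr.isCharacter χ.2) (IsIrr.isCharacter hφG)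
  have h1 := classInner_irr_self hθ
  rw [← hres, classInner_def] at h1
  have hnorm : classInner Φ Φ = 1 := by
    rw [classInner_def]
    have e : ∑ g : G, Φ g * conj (Φ g) =
        ∑ z : Z, (χ : G → ℂ) z * conj ((χ : G → ℂ) z) * ((f : ℂ) ^ 2) := by
      rw [← Finset.sum_subset (Finset.subset_univ (Finset.univ.filter (· ∈ Z))) (fun g _ hg => by
        have hg' : π g ∉ center Q := by simpa [hZ] using hg
        simp [hΦ, hvan _ hg']), Finset.sum_subtype (Finset.univ.filter (· ∈ Z)) (p := fun x => x ∈ Z) (by simp)]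
      refine Finset.sum_congr rfl fun z _ => ?_
      have hz := hcen _ z.2
      have : (φ : Q → ℂ) (π z) * conj ((φ : Q → ℂ) (π z)) = (f : ℂ) ^ 2 := by
        rw [Complex.mul_conj, hz]; push_cast; ring
      rw [← this]
      simp only [hΦ, Pi.mul_apply, map_mul]
      ring
    rw [e, ← Finset.sum_mul, ← Z.index_mul_card, hZi]
    have hcZ : (Nat.card Z : ℂ) ≠ 0 := by simp
    have hf0 : (f : ℂ) ≠ 0 := by simp; omega
    field_simp at h1
    push_cast
    field_simp
    linear_combination h1
  have hirr := CharInduce.isIrr_of_norm_one hΦc hnorm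
  have hdeg := h Φ hirr (b * f) (by simp [hΦ, hχ1, hf])
  nlinarith

end Cfsg.Agent.H25.AbelianIndex
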