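import Cfsg.Agent.H25.AbelianIndex.Basic
import Cfsg.Agent.H90.DegreeSplit

/-!
A quotient with a normal abelian subgroup on which every element outside acts without fixed
points.
-/

set_option autoImplicit false
set_option linter.style.haveILetI false
set_option linter.unusedSectionVars false

namespace Cfsg.Agent.H25.AbelianIndex

open Subgroup CharBasic
open scoped ComplexConjugate

universe u

variable {G : Type u} [Group G] [Finite G] {Q : Type u} [Group Q] [Finite Q]

theorem frobenius_step {b : ℕ} (h : DegLE b G) (π : G →* Q) (hπ : Function.Surjective π)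
    (C : Subgroup Q) [C.Normal] (hCtop : C ≠ ⊤) (hCbot : C ≠ ⊥)
    (hCab : ∀ a ∈ C, ∀ c ∈ C, a * c = c * a)
    (hfpf : ∀ g : Q, g ∉ C → ∀ c ∈ C, ∃ d ∈ C, g * d * g⁻¹ * d⁻¹ = c) :
    ((C.comap π).index ≤ b ∧ DegLE (b - 1) (C.comap π)) ∨
      (2 ≤ C.index ∧ C.index ≤ b ∧ (∃ e t : ℕ, Nat.card C = e ^ 2 * t ∧ e * t ∣ b) ∧
        π.ker.index = C.index * Nat.card C ∧ DegLE (b / 2) π.ker) := by
  classical
  cases nonempty_fintype G
  cases nonempty_fintype Q
  set K := C.comap π with hK
  haveI : K.Normal := by rw [hK]; infer_instance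
  haveI := Fintype.ofFinite K
  have hMK : π.ker ≤ K := fun m hm => by
    rw [hK, Subgroup.mem_comap, show π m = 1 from hm]; exact one_mem C
  set N : Subgroup K := π.ker.subgroupOf K with hN
  haveI : N.Normal := by rw [hN]; infer_instance
  haveI := Fintype.ofFinite N
  haveI : Fintype C := Fintype.ofFinite C
  -- `K / N ≅ C`
  let r : K →* C := (π.comp K.subtype).codRestrict C fun k => k.2
  have hrs : Function.Surjective r := fun c => by
    obtain ⟨g, hg⟩ := hπ c.1
    exact ⟨⟨g, by rw [hK, Subgroup.mem_comap, hg]; exact c.2⟩, Subtype.ext hg⟩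
  have hrk : ∀ k : K, k ∈ N ↔ r k = 1 := fun k => by
    rw [hN, Subgroup.mem_subgroupOf, MonoidHom.mem_ker]
    exact ⟨fun h => Subtype.ext h, fun h => congrArg Subtype.val h⟩
  have hNi : N.index = Nat.card C := by
    have : N = r.ker := by ext k; exact hrk k
    rw [this, Subgroup.index_ker, MonoidHom.range_eq_top.2 hrs, Subgroup.card_top]
  have hKi : K.index = C.index := Subgroup.index_comap_of_surjective _ hπ
  have hMi : π.ker.index = C.index * Nat.card C := by
    rw [← Subgroup.relIndex_mul_index hMK, hKi, mul_comm]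
    congr 1
  have hf2 : 2 ≤ C.index := by
    have h1 : C.index ≠ 1 := fun h => hCtop (Subgroup.index_eq_one.1 h)
    have h2 : C.index ≠ 0 := Subgroup.index_ne_zero_of_finite
    omega
  letI : CommGroup C :=
    { (inferInstance : Group C) with mul_comm := fun a c => Subtype.ext (hCab a a.2 c c.2) }
  have hsep : ∀ k : K, k ∉ N → ∃ l : K →* ℂˣ, N ≤ l.ker ∧ l k ≠ 1 := by
    intro k hk
    obtain ⟨χ, hχ⟩ := CommGroup.exists_apply_ne_one_of_hasEnoughRootsOfUnity C ℂ
      (a := r k) (fun h => hk ((hrk k).2 h))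
    exact ⟨χ.comp r, fun m hm => by rw [MonoidHom.mem_ker, MonoidHom.comp_apply, (hrk m).1 hm, map_one],
      hχ⟩
  have hl₀ : ∃ l₀ : K →* ℂˣ, N ≤ l₀.ker ∧ l₀ ≠ 1 := by
    obtain ⟨c, hc⟩ := Subgroup.ne_bot_iff_exists_ne_one.1 hCbot
    obtain ⟨k, hk⟩ := hrs c
    obtain ⟨l, hl, hlk⟩ := hsep k (fun h => hc (by rw [← hk]; exact (hrk k).1 h))
    exact ⟨l, hl, fun h => hlk (by rw [h]; rfl)⟩
  have hNG : ∀ (g : G) (k : K), k ∈ N →
      (⟨g * k * g⁻¹, (inferInstance : K.Normal).conj_mem k k.2 g⟩ : K) ∈ N := by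
    intro g k hk
    rw [hN, Subgroup.mem_subgroupOf] at hk ⊢
    exact (inferInstance : π.ker.Normal).conj_mem _ hk g
  have hfree : ∀ g : G, g ∉ K → ∀ l : K →* ℂˣ, N ≤ l.ker →
      CharInduce.conjFun K (fun c => (l c : ℂ)) g = (fun c => (l c : ℂ)) → l = 1 := by
    intro g hg l hl hfix
    ext k
    obtain ⟨d, hd, hdk⟩ := hfpf (π g) hg (π k) k.2
    obtain ⟨d', hd'⟩ := hπ d
    let δ : K := ⟨d', by rw [hK, Subgroup.mem_comap, hd']; exact hd⟩
    let δg : K := ⟨g * δ * g⁻¹, (inferInstance : K.Normal).conj_mem δ δ.2 g⟩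
    have e1 : l δg = l δ := Units.ext (congrFun hfix δ)
    have e2 : (δg * δ⁻¹)⁻¹ * k ∈ N := by
      rw [hN, Subgroup.mem_subgroupOf, MonoidHom.mem_ker]
      simp only [δg, δ, Subgroup.coe_mul, Subgroup.coe_inv, map_mul, map_inv, hd']
      rw [hdk, inv_mul_cancel]
    have e3 := MonoidHom.mem_ker.1 (hl e2)
    rw [map_mul, map_inv, map_mul, map_inv, e1, mul_inv_cancel, inv_one, one_mul] at e3
    simp [e3]
  have hext : ∀ ψ : K → ℂ, IsIrrCharacter K ψ → IsIrrCharacter N (fun y : N => ψ y) →
      ∀ n : ℕ, ψ 1 = n → C.index * n ≤ b := by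
    intro ψ hψ hres n hn
    obtain ⟨χ, hχ, hχ1⟩ := H90.DegreeSplit.exists_degree_index_mul K N hNG hl₀ hfree hψ hres
    exact h χ hχ _ (by rw [hχ1, hn, hKi, Nat.cast_mul])
  have hfb : C.index ≤ b := by
    have := hext (fun _ => 1) isIrrCharacter_one isIrrCharacter_one 1 (by simp)
    omega
  -- degrees of the kernel
  have hker : DegLE (b / 2) π.ker := by
    intro θ₀ hθ₀ n hn
    let e : N ≃* π.ker := Subgroup.subgroupOfEquivOfLe hMK
    have hθ : IsIrrCharacter N (fun y => θ₀ (e y)) :=
      CharInduce.IsIrr.comp hθ₀ e.toMonoidHom e.surjective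
    have hθ1 : θ₀ (e 1) = n := by simp [hn]
    obtain ⟨ψ, hψ⟩ := exists_over N hθ
    obtain ⟨r', hr', he⟩ := res_split N hθ ψ hψ
    obtain ⟨m, -, hm⟩ := IsIrr.exists_degree ψ.2
    obtain ⟨θ', e', m', hθ', he', hc', -, hθ'1, hψ1⟩ := H48.DegreeCongr.exists_norm_res N ψ.2
    have hne' : classInner (fun y : N => (ψ : K → ℂ) y) θ' ≠ 0 := by
      rw [hc']; simp; omega
    have hψne : classInner (fun y : N => (ψ : K → ℂ) y) (fun y => θ₀ (e y)) ≠ 0 := by
      intro h0
      apply hψ
      rw [← classInner_conj_symm, h0, map_zero]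
    obtain ⟨x, hx⟩ := CharInduce.exists_conjFun_eq_of_constituent N ψ.2 hθ' hθ hne' hψne
    have hnm : n = m' := by
      have := congrFun hx 1
      rw [hθ1] at this
      simp only [CharInduce.conjFun, OneMemClass.coe_one, mul_one, mul_inv_cancel] at this
      rw [show θ' (⟨1, _⟩ : N) = θ' 1 from rfl, hθ'1] at this
      exact_mod_cast this
    rw [hm] at hψ1
    have hψ1' : m = e' * (CharInduce.inertia N θ').index * n := by
      rw [hnm]; exact_mod_cast hψ1
    by_cases hone : e' * (CharInduce.inertia N θ').index = 1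
    · rw [hone, one_mul] at hψ1'
      have hr0 : r' = 0 := by
        refine CharInduce.IsChar.eq_zero_of_one_eq_zero hr' ?_
        have := congrFun he 1
        simp only [Pi.add_apply, OneMemClass.coe_one, hm, hψ1'] at this
        rw [show θ₀ (e 1) = (n : ℂ) from hθ1] at this
        linear_combination -this
      rw [hr0, add_zero] at he
      have := hext ψ ψ.2 (he ▸ hθ) n (by rw [hm, hψ1'])
      rw [Nat.le_div_iff_mul_le two_pos]
      nlinarith
    · have h2 : 2 ≤ e' * (CharInduce.inertia N θ').index := by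
        have : (CharInduce.inertia N θ').index ≠ 0 := Subgroup.index_ne_zero_of_finite
        have : 0 < e' * (CharInduce.inertia N θ').index :=
          Nat.mul_pos he' (Nat.pos_of_ne_zero this)
        omega
      have := DegLE.subgroup h K _ ψ.2 m hm
      rw [Nat.le_div_iff_mul_le two_pos]
      nlinarith
  by_cases hd : DegLE (b - 1) K
  · exact Or.inl ⟨hKi ▸ hfb, hd⟩
  -- a character of degree `b` of `K`
  right
  simp only [DegLE, not_forall, exists_prop] at hd
  obtain ⟨θ, hθ, n, hn, hlt⟩ := hd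
  have hnb := DegLE.subgroup h K θ hθ n hn
  rw [show n = b by omega] at hn
  refine ⟨hf2, hfb, ?_, hMi, hker⟩
  have hb0 : 0 < b := by omega
  have htw : ∀ l : K →* ℂˣ, IsIrrCharacter K ((fun k => (l k : ℂ)) * θ) := fun l => by
    refine CharInduce.isIrr_of_norm_one
      (CharInduce.IsChar.mul (CharInduce.isCharacter_hom l) (IsIrr.isCharacter hθ)) ?_
    rw [← classInner_irr_self hθ, classInner_def, classInner_def]
    congr 1
    refine Finset.sum_congr rfl fun k _ => ?_
    have h1 := CharInduce.isIrrCharacter_hom l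
    have h2 : (l k : ℂ) * conj (l k : ℂ) = 1 := by
      rw [(CharBasic.IsChar.inv_apply (IsIrr.isCharacter h1) k).symm]
      simp
    simp only [Pi.mul_apply, map_mul]
    linear_combination θ k * conj (θ k) * h2
  -- such twists are invariant
  have hinv : ∀ (l : K →* ℂˣ) (g : G) (k : K),
      (l ⟨g * k * g⁻¹, (inferInstance : K.Normal).conj_mem k k.2 g⟩ : ℂ) *
        θ ⟨g * k * g⁻¹, (inferInstance : K.Normal).conj_mem k k.2 g⟩ = (l k : ℂ) * θ k := by
    intro l g k
    obtain ⟨χ, hχ⟩ := exists_over K (htw l)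
    have hres := (res_eq_of_deg h K (htw l) (by simp [hn]) χ hχ).1
    have e1 := congrFun hres ⟨g * k * g⁻¹, (inferInstance : K.Normal).conj_mem k k.2 g⟩
    have e2 := congrFun hres k
    simp only [Pi.mul_apply] at e1 e2
    rw [← e1, ← e2]
    exact IsIrr.isClassFunction χ.2 (k : G) g
  obtain ⟨g, hg⟩ : ∃ g : G, g ∉ K := by
    by_contra hall
    push Not at hall
    apply hCtop
    rw [eq_top_iff]
    intro q _
    obtain ⟨g, rfl⟩ := hπ q
    exact hall g
  -- `θ` vanishes outside `N`
  have hvan : ∀ k : K, k ∉ N → θ k = 0 := by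
    intro k hk
    by_contra hθk
    haveI : Finite (K →* ℂˣ) := Finite.of_injective
      (fun l : K →* ℂˣ => (⟨_, CharInduce.isIrrCharacter_hom l⟩ : IrrCharacter K))
      fun a c h => MonoidHom.ext fun x => Units.ext (congrFun (congrArg Subtype.val h) x)
    let α : K →* K :=
      { toFun := fun c => ⟨g * c * g⁻¹, (inferInstance : K.Normal).conj_mem c c.2 g⟩
        map_one' := Subtype.ext (by simp)
        map_mul' := fun x y => Subtype.ext (by simp [mul_assoc]) }
    let L := {l : K →* ℂˣ // N ≤ l.ker}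
    let D : L → L := fun l => ⟨l.1.comp α / l.1, fun m hm => by
      rw [MonoidHom.mem_ker, MonoidHom.div_apply, MonoidHom.comp_apply,
        MonoidHom.mem_ker.1 (l.2 hm), MonoidHom.mem_ker.1 (l.2 (show α m ∈ N from hNG g m hm)), div_one]⟩
    have hinj : Function.Injective D := by
      intro a c hac
      have hac' : a.1.comp α / a.1 = c.1.comp α / c.1 := congrArg Subtype.val hac
      have h1 := hfree g hg (a.1 / c.1) (fun m hm => by
        rw [MonoidHom.mem_ker, MonoidHom.div_apply, MonoidHom.mem_ker.1 (a.2 hm),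
          MonoidHom.mem_ker.1 (c.2 hm), div_one]) (funext fun x => ?_)
      · exact Subtype.ext (div_eq_one.1 h1)
      · have := DFunLike.congr_fun hac' x
        simp only [MonoidHom.div_apply, MonoidHom.comp_apply] at this
        simp only [CharInduce.conjFun, MonoidHom.div_apply]
        congr 1
        rw [div_eq_div_iff_div_eq_div] at this
        exact this
    obtain ⟨μ, hμN, hμk⟩ := hsep k hk
    obtain ⟨l, hl⟩ := Finite.injective_iff_surjective.1 hinj ⟨μ, hμN⟩
    have hlμ : (l.1 (α k) : ℂ) = (μ k : ℂ) * (l.1 k : ℂ) := by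
      have := DFunLike.congr_fun (congrArg Subtype.val hl) k
      simp only [D, MonoidHom.div_apply, MonoidHom.comp_apply] at this
      rw [div_eq_iff_eq_mul] at this
      rw [this, Units.val_mul]
    have e1 := hinv 1 g k
    simp only [MonoidHom.one_apply, Units.val_one, one_mul] at e1
    have e2 := hinv l.1 g k
    rw [e1, show (⟨g * k * g⁻¹, (inferInstance : K.Normal).conj_mem k k.2 g⟩ : K) = α k from rfl,
      hlμ] at e2
    apply hμk
    apply Units.ext
    have h0 : (l.1 k : ℂ) * θ k ≠ 0 := mul_ne_zero (Units.ne_zero _) hθk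
    rw [Units.val_one]
    exact mul_right_cancel₀ h0 (by linear_combination e2)
  obtain ⟨θ', e', m', hθ', he', -, hnorm, hθ'1, hθ1'⟩ := H48.DegreeCongr.exists_norm_res N hθ
  have h1 := classInner_irr_self hθ
  rw [classInner_def, ← Finset.sum_subset (Finset.subset_univ (Finset.univ.filter (· ∈ N)))
    (fun x _ hx => by rw [hvan x (by simpa using hx), zero_mul]),
    Finset.sum_subtype (Finset.univ.filter (· ∈ N)) (p := fun x => x ∈ N) (by simp),
    ← N.index_mul_card, Nat.cast_mul, hNi] at h1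
  rw [classInner_def] at hnorm
  have hcard : Nat.card C = e' ^ 2 * (CharInduce.inertia N θ').index := by
    have hN0 : (Nat.card N : ℂ) ≠ 0 := by simp
    have hC0 : (Nat.card C : ℂ) ≠ 0 := by simp
    field_simp at h1 hnorm
    exact_mod_cast (by rw [h1] at hnorm; exact mul_right_cancel₀ hN0 (by linear_combination hnorm) :
      (Nat.card C : ℂ) = ((e' ^ 2 * (CharInduce.inertia N θ').index : ℕ) : ℂ))
  rw [hn] at hθ1'
  have hbe : b = e' * (CharInduce.inertia N θ').index * m' := by exact_mod_cast hθ1'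
  exact ⟨e', _, hcard, m', hbe⟩

end Cfsg.Agent.H25.AbelianIndex
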