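import Cfsg.Agent.H25.AbelianIndex.Center
import Cfsg.Agent.H40.SupSolvable
import Cfsg.Agent.H90.DegreeSplit
import Cfsg.Agent.S4464
import Cfsg.Agent.S0144

/-!
Nonsolvable groups: either the centraliser of an element of small class has smaller degrees, or
the maximal solvable normal subgroup has small index and degrees at most `b / 2`.
-/

set_option autoImplicit false
set_option linter.style.haveILetI false
set_option linter.unusedSectionVars false

namespace Cfsg.Agent.H25.AbelianIndex

open Subgroup CharBasic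
open scoped ComplexConjugate commutatorElement

universe u

variable {G : Type u} [Group G] [Finite G]

theorem exists_maximal_solvable :
    ∃ R : Subgroup G, R.Normal ∧ Group.IsSolvable R ∧
      ∀ A : Subgroup G, A.Normal → Group.IsSolvable A → A ≤ R := by
  classical
  obtain ⟨R, hR, hmax⟩ := Set.Finite.exists_maximal
    (s := {R : Subgroup G | R.Normal ∧ Group.IsSolvable R})
    (Set.toFinite _) ⟨⊥, inferInstance, Group.isSolvable_of_comm fun x y => Subsingleton.elim _ _⟩
  refine ⟨R, hR.1, hR.2, fun A hA hAs => ?_⟩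
  haveI := hR.1
  have h1 : (R ⊔ A).Normal := inferInstance
  have h2 : Group.IsSolvable ↥(R ⊔ A) :=
    H40.isSolvable_sup (by rw [Subgroup.normalizer_eq_top]; exact le_top) hR.2 hAs
  exact le_sup_right.trans (hmax ⟨h1, h2⟩ le_sup_left)

/-- Nonsolvable groups have a degree at least five. -/
theorem five_le {b : ℕ} (h : DegLE b G) (hns : ¬ Group.IsSolvable G) : 5 ≤ b := by
  by_contra hb
  obtain ⟨R, hRn, hRs, hRmax⟩ := exists_maximal_solvable (G := G)
  haveI := hRn
  haveI := hRs
  have hdvd : ∀ p : ℕ, p.Prime → p ∣ R.index → p = 2 ∨ p = 3 := by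
    intro p hp hpd
    by_contra hne
    push Not at hne
    have hp5 : 5 ≤ p := by
      by_contra hlt
      have := hp.two_le
      interval_cases p <;> norm_num at *
    obtain ⟨P, hPn, hPc, -, hPi⟩ := S4464.result p hp (G := G) fun χ => by
      obtain ⟨n, -, hn⟩ := IsIrr.exists_degree χ.2
      have := h _ χ.2 n hn
      have e : Cfsg.charDegree (χ : G → ℂ) = n := by simp [Cfsg.charDegree, hn]
      omega
    have hPs : Group.IsSolvable P :=
      Group.isSolvable_of_comm fun x y => Subtype.ext (hPc x x.2 y y.2)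
    exact hPi (hpd.trans (Subgroup.index_dvd_of_le (hRmax P hPn hPs)))
  obtain ⟨a, c, hac⟩ : ∃ a c, R.index = 2 ^ a * 3 ^ c := by
    obtain ⟨a, m, hm, hR⟩ := Nat.exists_eq_pow_mul_and_not_dvd
      (Subgroup.index_ne_zero_of_finite (H := R)) 2 (by norm_num)
    refine ⟨a, m.primeFactorsList.length, ?_⟩
    have hm0 : m ≠ 0 := fun h0 => hm (h0 ▸ dvd_zero 2)
    conv_lhs => rw [hR]
    congr 1
    refine Nat.eq_prime_pow_of_unique_prime_dvd hm0 fun {d} hd hdm => ?_
    rcases hdvd d hd (hR ▸ hdm.mul_left _) with h2 | h3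
    · exact absurd (h2 ▸ hdm) hm
    · exact h3
  haveI := S0144.burnside 2 3 Nat.prime_two Nat.prime_three _ (G ⧸ R) le_rfl a c
    (by rw [← Subgroup.index_eq_card]; exact hac)
  exact hns (Group.isSolvable_of_ker_le_range R.subtype (QuotientGroup.mk' R)
    (by rw [QuotientGroup.ker_mk', Subgroup.range_subtype]))

theorem nonsolvable_step {b : ℕ} (h : DegLE b G) (hns : ¬ Group.IsSolvable G) :
    (∃ H : Subgroup G, H.index ≤ b ^ 2 ∧ DegLE (b - 1) H) ∨
      ∃ M : Subgroup G, M.index ≤ b ^ 4 ∧ DegLE (b / 2) M := by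
  classical
  cases nonempty_fintype G
  have hb5 := five_le h hns
  obtain ⟨R, hRn, hRs, hRmax⟩ := exists_maximal_solvable (G := G)
  haveI := hRn
  haveI := Fintype.ofFinite R
  by_cases hsmall : ∃ x : G, x ∉ R ∧ (centralizer ({x} : Set G)).index ≤ b ^ 2
  · obtain ⟨x, hxR, hx⟩ := hsmall
    left
    refine ⟨centralizer ({x} : Set G), hx, ?_⟩
    obtain ⟨g, hg⟩ : ∃ g : G, x * (g * x * g⁻¹) ≠ g * x * g⁻¹ * x := by
      by_contra hall
      push Not at hall
      apply hxR
      have hab : IsMulCommutative (normalClosure ({x} : Set G)) :=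
        Subgroup.isMulCommutative_closure (fun a ha c hc => by
          obtain ⟨x₁, hx₁, ha'⟩ := Group.mem_conjugatesOfSet_iff.1 ha
          obtain ⟨x₂, hx₂, hc'⟩ := Group.mem_conjugatesOfSet_iff.1 hc
          rw [Set.mem_singleton_iff] at hx₁ hx₂
          subst hx₁ hx₂
          obtain ⟨u, rfl⟩ := isConj_iff.1 ha'
          obtain ⟨v, rfl⟩ := isConj_iff.1 hc'
          have := hall (u⁻¹ * v)
          calc u * x₂ * u⁻¹ * (v * x₂ * v⁻¹)
              = u * (x₂ * (u⁻¹ * v * x₂ * (u⁻¹ * v)⁻¹)) * u⁻¹ := by group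
            _ = u * (u⁻¹ * v * x₂ * (u⁻¹ * v)⁻¹ * x₂) * u⁻¹ := by rw [this]
            _ = v * x₂ * v⁻¹ * (u * x₂ * u⁻¹) := by group)
      exact hRmax _ inferInstance (Group.isSolvable_of_comm fun a c => hab.is_comm.comm a c)
        (Subgroup.subset_normalClosure rfl)
    exact degLE_centralizer (by omega) h hg
  push Not at hsmall
  right
  refine ⟨R, ?_, ?_⟩
  · -- counting
    set k := Fintype.card (IrrCharacter G)
    have hk : Nat.card G ≤ k * b ^ 2 := by
      have hd : ∀ χ : IrrCharacter G, ∃ n : ℕ, n ≤ b ∧ (χ : G → ℂ) 1 = n := fun χ => by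
        obtain ⟨n, -, hn⟩ := IsIrr.exists_degree χ.2
        exact ⟨n, h _ χ.2 n hn, hn⟩
      choose d hdb hd using hd
      have hs := sum_sq_degree (G := G)
      simp only [hd] at hs
      have hs' : ∑ χ, d χ ^ 2 = Nat.card G := by exact_mod_cast hs
      rw [← hs']
      exact (Finset.sum_le_sum fun χ _ => Nat.pow_le_pow_left (hdb χ) 2).trans (by simp [k])
    have hsum : ∑ g : G, Nat.card (centralizer ({g} : Set G)) = k * Nat.card G := by
      have h1 : (∑ g : G, (Nat.card (centralizer ({g} : Set G)) : ℂ)) = (k : ℂ) * Nat.card G := by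
        simp only [← second_orthogonality_self]
        rw [Finset.sum_comm]
        simp only [fun χ : IrrCharacter G => show ∑ g : G, (χ : G → ℂ) g * conj ((χ : G → ℂ) g) =
          (Nat.card G : ℂ) from by
            have := classInner_irr_self χ.2
            rw [classInner_def] at this
            field_simp at this
            linear_combination this]
        simp [k, mul_comm]
      exact_mod_cast h1
    have hout : ∀ g ∈ Finset.univ.filter (fun g : G => g ∉ R),
        Nat.card (centralizer ({g} : Set G)) * (b ^ 2 + 1) ≤ Nat.card G := fun g hg => by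
      have := hsmall g (Finset.mem_filter.1 hg).2
      rw [← (centralizer ({g} : Set G)).index_mul_card, mul_comm]
      exact Nat.mul_le_mul_right _ this
    have hin : ∀ g ∈ Finset.univ.filter (fun g : G => g ∈ R),
        Nat.card (centralizer ({g} : Set G)) * (b ^ 2 + 1) ≤ Nat.card G * (b ^ 2 + 1) := fun g _ =>
      Nat.mul_le_mul_right _ (Subgroup.card_le_card_group _)
    have h1 := Finset.sum_le_sum hin
    have h2 := Finset.sum_le_sum hout
    rw [← Finset.sum_mul] at h1 h2
    simp only [Finset.sum_const, smul_eq_mul] at h1 h2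
    have hsplit := Finset.sum_filter_add_sum_filter_not Finset.univ (fun g : G => g ∈ R)
      (fun g : G => Nat.card (centralizer ({g} : Set G)))
    rw [hsum] at hsplit
    have hcR : (Finset.univ.filter (fun g : G => g ∈ R)).card = Nat.card R := by
      rw [Nat.card_eq_fintype_card, Fintype.card_subtype]
    have hcN : (Finset.univ.filter (fun g : G => g ∉ R)).card + Nat.card R = Nat.card G := by
      rw [← hcR, add_comm, Finset.card_filter_add_card_filter_not, Finset.card_univ,
        Nat.card_eq_fintype_card]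
    rw [hcR] at h1
    have hGR := R.index_mul_card
    have hRpos : 0 < Nat.card R := Nat.card_pos
    have hGpos : 0 < Nat.card G := Nat.card_pos
    set cN := (Finset.univ.filter (fun g : G => g ∉ R)).card
    set S1 := ∑ g ∈ Finset.univ.filter (fun g : G => g ∈ R), Nat.card (centralizer ({g} : Set G))
    set S2 := ∑ g ∈ Finset.univ.filter (fun g : G => g ∉ R), Nat.card (centralizer ({g} : Set G))
    set c := Nat.card G
    set r := Nat.card R
    -- `c² (b²+1) ≤ b² (r b² c + c²)`
    have e1 : k * c * (b ^ 2 + 1) ≤ r * (c * (b ^ 2 + 1)) + cN * c := by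
      rw [← hsplit, add_mul]; exact add_le_add h1 h2
    have e2 : c * (c * (b ^ 2 + 1)) ≤ k * b ^ 2 * (c * (b ^ 2 + 1)) := Nat.mul_le_mul_right _ hk
    have e3 : c * (c * (b ^ 2 + 1)) ≤ b ^ 2 * (r * (c * (b ^ 2 + 1)) + cN * c) :=
      e2.trans (by nlinarith)
    have e4 : c * c ≤ c * (r * b ^ 4) := by
      rw [← hcN] at e3 ⊢
      nlinarith
    have e5 := Nat.le_of_mul_le_mul_left e4 hGpos
    rw [← hGR, mul_comm R.index] at e5
    exact Nat.le_of_mul_le_mul_left e5 hRpos
  · -- degrees of `R`
    intro θ hθ n hn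
    rw [Nat.le_div_iff_mul_le two_pos]
    by_contra hlt
    push Not at hlt
    obtain ⟨ψ, hψ⟩ := exists_over R hθ
    obtain ⟨θ', e', m', hθ', he', hc', -, hθ'1, hψ1⟩ := H48.DegreeCongr.exists_norm_res R ψ.2
    have hne' : classInner (fun y : R => (ψ : G → ℂ) y) θ' ≠ 0 := by
      rw [hc']; simp; omega
    have hψne : classInner (fun y : R => (ψ : G → ℂ) y) θ ≠ 0 := by
      intro h0
      apply hψ
      rw [← classInner_conj_symm, h0, map_zero]
    obtain ⟨x, hx⟩ := CharInduce.exists_conjFun_eq_of_constituent R ψ.2 hθ' hθ hne' hψne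
    have hnm : n = m' := by
      have := congrFun hx 1
      rw [hn] at this
      simp only [CharInduce.conjFun, OneMemClass.coe_one, mul_one, mul_inv_cancel] at this
      rw [show θ' (⟨1, _⟩ : R) = θ' 1 from rfl, hθ'1] at this
      exact_mod_cast this
    have hle := h _ ψ.2 _ hψ1
    rw [← hnm] at hle hψ1
    have hone : e' * (CharInduce.inertia R θ').index = 1 := by
      by_contra hne1
      have : (CharInduce.inertia R θ').index ≠ 0 := Subgroup.index_ne_zero_of_finite
      have : 0 < e' * (CharInduce.inertia R θ').index :=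
        Nat.mul_pos he' (Nat.pos_of_ne_zero this)
      have h2 : 2 ≤ e' * (CharInduce.inertia R θ').index := by omega
      nlinarith
    obtain ⟨r, hr, he⟩ := res_split R hθ ψ hψ
    have hr0 : r = 0 := by
      refine CharInduce.IsChar.eq_zero_of_one_eq_zero hr ?_
      have := congrFun he 1
      simp only [Pi.add_apply, OneMemClass.coe_one, hψ1, hone, one_mul, hn] at this
      linear_combination -this
    rw [hr0, add_zero] at he
    -- a nonlinear character of the quotient
    have hnab : commutator (G ⧸ R) ≠ ⊥ := by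
      intro hb
      haveI := hRs
      haveI : Group.IsSolvable (G ⧸ R) := Group.isSolvable_of_comm fun a c => by
        have : ⁅a, c⁆ ∈ commutator (G ⧸ R) := commutator_mem_commutator (mem_top a) (mem_top c)
        rw [hb, Subgroup.mem_bot, commutatorElement_eq_one_iff_mul_comm] at this
        exact this
      exact hns (Group.isSolvable_of_ker_le_range R.subtype (QuotientGroup.mk' R)
        (by rw [QuotientGroup.ker_mk', Subgroup.range_subtype]))
    obtain ⟨φ, f, hf2, hf⟩ := exists_nonlinear hnab
    have hφ : IsIrrCharacter G (fun g => (φ : G ⧸ R → ℂ) (QuotientGroup.mk' R g)) :=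
      CharInduce.IsIrr.comp φ.2 _ (QuotientGroup.mk'_surjective R)
    have hχ := (H90.DegreeSplit.twist R ψ.2 (by rw [he]; exact hθ)).1 _ hφ (fun y hy => by
      simp only [QuotientGroup.mk'_apply, QuotientGroup.mk_one, (QuotientGroup.eq_one_iff y).2 hy])
    have := h _ hχ (f * n) (by simp [hψ1, hone, hf])
    nlinarith

end Cfsg.Agent.H25.AbelianIndex
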