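import Cfsg.Agent.H25.AbelianIndex.Frobenius
import Cfsg.Agent.H25.AbelianIndex.Radical
import Cfsg.Agent.H90.MinNonabelianQuot

/-!
Isaacs 12.23: a group with irreducible degrees at most `b` has an abelian subgroup of index at
most `(b!) ^ 2`.
-/

set_option autoImplicit false
set_option linter.style.haveILetI false
set_option linter.unusedSectionVars false

namespace Cfsg.Agent.H25.AbelianIndex

open Subgroup CharBasic
open scoped commutatorElement

universe u

variable {G : Type u} [Group G] [Finite G]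

/-- A solvable nonabelian group has a minimal nonabelian quotient. -/
theorem exists_min_quotient (hnab : commutator G ≠ ⊥) :
    ∃ (M : Subgroup G) (_ : M.Normal), commutator (G ⧸ M) ≠ ⊥ ∧
      ∀ D : Subgroup (G ⧸ M), D.Normal → D ≠ ⊥ → commutator (G ⧸ M) ≤ D := by
  classical
  obtain ⟨M, hM, hmax⟩ := Set.Finite.exists_maximal
    (s := {M : Subgroup G | M.Normal ∧ ¬ commutator G ≤ M}) (Set.toFinite _)
    ⟨⊥, inferInstance, fun h => hnab (le_bot_iff.1 h)⟩
  haveI := hM.1
  have hmap : (commutator G).map (QuotientGroup.mk' M) = commutator (G ⧸ M) := by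
    rw [_root_.commutator_def, _root_.commutator_def, Subgroup.map_commutator,
      Subgroup.map_top_of_surjective _ (QuotientGroup.mk'_surjective M)]
  refine ⟨M, hM.1, fun h => hM.2 ?_, fun D hD hD1 => ?_⟩
  · rw [← hmap, Subgroup.map_eq_bot_iff, QuotientGroup.ker_mk'] at h
    exact h
  · by_contra hle
    have hK : (D.comap (QuotientGroup.mk' M)).Normal ∧ ¬ commutator G ≤ D.comap (QuotientGroup.mk' M) :=
      ⟨inferInstance, fun h => hle (hmap ▸ Subgroup.map_le_iff_le_comap.2 h)⟩
    have hMD : M ≤ D.comap (QuotientGroup.mk' M) := fun m hm => by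
      rw [Subgroup.mem_comap, show QuotientGroup.mk' M m = 1 from (QuotientGroup.eq_one_iff m).2 hm]
      exact one_mem D
    have hDM := hmax hK hMD
    apply hD1
    rw [eq_bot_iff]
    intro q hq
    obtain ⟨g, rfl⟩ := QuotientGroup.mk'_surjective M q
    exact (Subgroup.mem_bot).2 ((QuotientGroup.eq_one_iff g).2 (hDM hq))

theorem factorial_half {b : ℕ} (hb : 5 ≤ b) :
    (Nat.factorial (b / 2)) * b ^ 2 ≤ Nat.factorial b := by
  rcases Nat.lt_or_ge b 6 with h | h
  · interval_cases b <;> decide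
  obtain ⟨c, rfl⟩ : ∃ c, b = c + 6 := ⟨b - 6, by omega⟩
  have h1 : Nat.factorial (c + 6) =
      (c + 6) * ((c + 5) * ((c + 4) * Nat.factorial (c + 3))) := by
    simp [Nat.factorial_succ]
  have h2 : Nat.factorial ((c + 6) / 2) ≤ Nat.factorial (c + 3) :=
    Nat.factorial_le (by omega)
  have h3 : c + 6 ≤ (c + 5) * (c + 4) := by nlinarith
  rw [h1]
  calc Nat.factorial ((c + 6) / 2) * (c + 6) ^ 2
      ≤ Nat.factorial (c + 3) * (c + 6) ^ 2 := Nat.mul_le_mul_right _ h2
    _ = (c + 6) * ((c + 6) * Nat.factorial (c + 3)) := by ring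
    _ ≤ (c + 6) * ((c + 5) * (c + 4) * Nat.factorial (c + 3)) :=
        Nat.mul_le_mul_left _ (Nat.mul_le_mul_right _ h3)
    _ = _ := by ring

/-- A subgroup that allows the induction step. -/
theorem exists_step {b : ℕ} (h : DegLE b G) (hnab : commutator G ≠ ⊥) (hb : 2 ≤ b) :
    ∃ (M : Subgroup G) (c : ℕ), c < b ∧ DegLE c M ∧
      M.index * (Nat.factorial c) ^ 2 ≤ (Nat.factorial b) ^ 2 := by
  have hstep : ∀ H : Subgroup G, H.index ≤ b ^ 2 → DegLE (b - 1) H →
      ∃ (M : Subgroup G) (c : ℕ), c < b ∧ DegLE c M ∧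
        M.index * (Nat.factorial c) ^ 2 ≤ (Nat.factorial b) ^ 2 := by
    intro H hi hd
    refine ⟨H, b - 1, by omega, hd, ?_⟩
    calc H.index * (Nat.factorial (b - 1)) ^ 2
        ≤ b ^ 2 * (Nat.factorial (b - 1)) ^ 2 := Nat.mul_le_mul_right _ hi
      _ = (Nat.factorial b) ^ 2 := by
        rw [← mul_pow, Nat.mul_factorial_pred (by omega)]
  by_cases hns : Group.IsSolvable G
  swap
  · have hb5 := five_le h hns
    rcases nonsolvable_step h hns with ⟨H, hi, hd⟩ | ⟨M, hi, hd⟩
    · exact hstep H hi hd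
    refine ⟨M, b / 2, by omega, hd, ?_⟩
    calc M.index * (Nat.factorial (b / 2)) ^ 2
        ≤ b ^ 4 * (Nat.factorial (b / 2)) ^ 2 := Nat.mul_le_mul_right _ hi
      _ = (Nat.factorial (b / 2) * b ^ 2) ^ 2 := by ring
      _ ≤ _ := Nat.pow_le_pow_left (factorial_half (by omega)) 2
  obtain ⟨M, hMn, hQnab, hmin⟩ := exists_min_quotient hnab
  haveI := hns
  haveI : Group.IsSolvable (G ⧸ M) :=
    Group.isSolvable_of_surjective (QuotientGroup.mk'_surjective M)
  by_cases hc : center (G ⧸ M) = ⊥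
  swap
  · obtain ⟨hi, hd⟩ := drop_center (by omega) h _ (QuotientGroup.mk'_surjective M) hQnab hc hmin
    exact hstep _ hi hd
  have hnp : ∀ p : ℕ, p.Prime → ¬ IsPGroup p (G ⧸ M) := by
    intro p hp hP
    haveI := Fact.mk hp
    haveI : Nontrivial (G ⧸ M) := by
      by_contra hn
      rw [not_nontrivial_iff_subsingleton] at hn
      exact hQnab (Subgroup.eq_bot_of_subsingleton _)
    exact (hP.bot_lt_center).ne' hc
  rcases H90.MinNonabelian.main inferInstance hQnab hmin with
    ⟨p, hp, hP⟩ | ⟨C, q, hq, hCn, hCtop, hCbot, -, hCq, hCab, hfpf⟩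
  · exact absurd hP (hnp p hp)
  haveI := hCn
  rcases frobenius_step h _ (QuotientGroup.mk'_surjective M) C hCtop hCbot hCab hfpf with
    ⟨hi, hd⟩ | ⟨hf2, hfb, ⟨e, t, het, hetb⟩, hMi, hd⟩
  · exact hstep _ (hi.trans (Nat.le_self_pow two_ne_zero b)) hd
  have hCb : Nat.card C ≤ b ^ 2 := by
    have h1 : e * t ≤ b := Nat.le_of_dvd (by omega) hetb
    rw [het]
    calc e ^ 2 * t ≤ e ^ 2 * t ^ 2 := Nat.mul_le_mul_left _ (Nat.le_self_pow two_ne_zero _)
      _ = (e * t) ^ 2 := by ring
      _ ≤ _ := Nat.pow_le_pow_left h1 2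
  refine ⟨_, b / 2, by omega, hd, ?_⟩
  rw [hMi]
  rcases Nat.lt_or_ge b 5 with hb4 | hb4
  · rcases (show b = 2 ∨ b = 3 ∨ b = 4 by omega) with rfl | rfl | rfl
    · exfalso
      haveI := Fact.mk hq
      have hf : C.index = 2 := le_antisymm hfb hf2
      -- the order of `C` is a power of two
      have het2 : e * t = 1 ∨ e * t = 2 := (Nat.dvd_prime Nat.prime_two).1 hetb
      have he2 : e ≤ 2 := by
        have := Nat.le_of_dvd two_pos ((Dvd.intro t rfl).trans hetb)
        exact this
      have ht2 : t ≤ 2 := Nat.le_of_dvd two_pos ((Dvd.intro_left e rfl).trans hetb)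
      have hC : ∃ j, Nat.card C = 2 ^ j := by
        interval_cases e <;> interval_cases t <;>
          first
            | omega
            | exact ⟨0, by omega⟩
            | exact ⟨1, by omega⟩
            | exact ⟨2, by omega⟩
      obtain ⟨j, hj⟩ := hC
      exact hnp 2 Nat.prime_two (IsPGroup.of_card (n := j + 1) (by
        rw [← C.index_mul_card, hj, hf, pow_succ]; ring))
    · calc C.index * Nat.card C * (Nat.factorial (3 / 2)) ^ 2
          ≤ 3 * 3 ^ 2 * (Nat.factorial (3 / 2)) ^ 2 :=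
            Nat.mul_le_mul_right _ (Nat.mul_le_mul hfb hCb)
        _ ≤ _ := by decide
    · calc C.index * Nat.card C * (Nat.factorial (4 / 2)) ^ 2
          ≤ 4 * 4 ^ 2 * (Nat.factorial (4 / 2)) ^ 2 :=
            Nat.mul_le_mul_right _ (Nat.mul_le_mul hfb hCb)
        _ ≤ _ := by decide
  · calc C.index * Nat.card C * (Nat.factorial (b / 2)) ^ 2
        ≤ b * b ^ 2 * (Nat.factorial (b / 2)) ^ 2 :=
          Nat.mul_le_mul_right _ (Nat.mul_le_mul hfb hCb)
      _ ≤ b ^ 4 * (Nat.factorial (b / 2)) ^ 2 := Nat.mul_le_mul_right _ (by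
          rw [← pow_succ']; exact Nat.pow_le_pow_right (by omega) (by omega))
      _ = (Nat.factorial (b / 2) * b ^ 2) ^ 2 := by ring
      _ ≤ _ := Nat.pow_le_pow_left (factorial_half hb4) 2

theorem main (b : ℕ) : ∀ (G : Type u) [Group G] [Finite G], DegLE b G →
    ∃ A : Subgroup G, (∀ x ∈ A, ∀ y ∈ A, x * y = y * x) ∧ A.index ≤ (Nat.factorial b) ^ 2 := by
  induction b using Nat.strong_induction_on with
  | _ b ih =>
    intro G _ _ h
    by_cases hab : ∀ x y : G, x * y = y * x
    · refine ⟨⊤, fun x _ y _ => hab x y, ?_⟩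
      rw [Subgroup.index_top]
      exact Nat.one_le_iff_ne_zero.2 (pow_ne_zero _ (Nat.factorial_ne_zero b))
    have hb : 2 ≤ b := by
      by_contra hb
      exact hab (comm_of_degLE_one (by omega) h)
    have hnab : commutator G ≠ ⊥ := fun hc => hab fun x y => by
      have : ⁅x, y⁆ ∈ commutator G := commutator_mem_commutator (mem_top x) (mem_top y)
      rw [hc, Subgroup.mem_bot, commutatorElement_eq_one_iff_mul_comm] at this
      exact this
    obtain ⟨M, c, hcb, hd, hi⟩ := exists_step h hnab hb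
    obtain ⟨A, hA, hAi⟩ := ih c hcb M hd
    refine ⟨A.map M.subtype, ?_, ?_⟩
    · rintro _ ⟨x, hx, rfl⟩ _ ⟨y, hy, rfl⟩
      exact congrArg Subtype.val (hA x hx y hy)
    · rw [Subgroup.index_map_subtype]
      calc A.index * M.index ≤ (Nat.factorial c) ^ 2 * M.index := Nat.mul_le_mul_right _ hAi
        _ = M.index * (Nat.factorial c) ^ 2 := mul_comm _ _
        _ ≤ _ := hi

end Cfsg.Agent.H25.AbelianIndex
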